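import Cfsg.Agent.Lib.Spor.McLPerm.CentNum

/-!
The members of the class are distinct, part 0.
-/

set_option autoImplicit false
set_option maxRecDepth 20000

namespace CfsgLib.Spor.McLPerm.Cent

theorem sorted_check0 : ((List.range 7425).all fun d => sortedAt (0 + d)) = true := by decide +kernel

theorem place_check0 : ((List.range 7425).all fun d => placeAt (0 + d)) = true := by decide +kernel

end CfsgLib.Spor.McLPerm.Cent
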