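import Cfsg.Agent.Lib.Spor.McLPerm.CentNum

/-!
Checks of the generators of the centralizer.
-/

set_option autoImplicit false
set_option maxRecDepth 20000

namespace CfsgLib.Spor.McLPerm.Cent

theorem gen_ops : opsOK genRows genOps 4 = true := by decide +kernel

theorem gen_seed : ((List.range 4).all fun k => (List.range 275).all fun b =>
    look genRows k b == look eltRows k b) = true := by decide +kernel

theorem gen_facts : (decide (tIdx < 4 + genOps.length) && (decide (aIdx < 4 + genOps.length) &&
    (decide (bIdx < 4 + genOps.length) &&
    ((List.range 275).all fun b => look genRows tIdx b == tN b && (look cenRows 2 b == tN b &&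
      (look cenRows 0 b == look genRows aIdx b && look cenRows 1 b == look genRows bIdx b)))))) = true ∧
    (basePts.all fun b => tN (look genRows aIdx b) == look genRows aIdx (tN b) &&
      tN (look genRows bIdx b) == look genRows bIdx (tN b)) = true := by decide +kernel

theorem cen_ops : opsOK cenRows cenOps 3 = true := by decide +kernel

theorem cen_chain : chainOK cenRows (3 + cenOps.length) [] cenBase cenTrans = true ∧
    (cenTrans.map List.length).prod = 40320 := by decide +kernel

theorem cen_root : rootIdx < 3 + cenOps.length ∧
    (basePts.all fun b => look cenRows rootIdx (look cenRows rootIdx b) == tN b) = true ∧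
    (basePts.any fun b => !(tN b == b)) = true := by decide +kernel

theorem img_ops : opsOK imgRows imgOps 3 = true := by decide +kernel

theorem img_chain : chainOK imgRows (3 + imgOps.length) [] imgBase imgTrans = true ∧
    (imgTrans.map List.length).prod = 20160 := by decide +kernel

theorem img_seed : ((List.range 3).all fun g => ((List.range 8).all fun i => decide (look imgRows g i < 8) &&
    famStep g i) && ((List.range 275).all fun b => decide (b < 8) || look imgRows g b == b)) = true ∧
    ((List.range 8).all fun i => look imgRows 2 i == i) = true := by decide +kernel

theorem fam_facts : ((List.range 8).all fun i => decide ((fams.getD i []).length = 140) &&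
    (decide (fams.getD i []).Nodup && (fams.getD i []).all fun c => decide (c < 75625))) = true ∧
    ((List.range 8).all fun i => (List.range 8).all fun j => decide (i = j) ||
      (fams.getD i []).any fun c => !(fams.getD j []).contains c) = true := by decide +kernel

theorem syl_wit : ((List.range 128).all fun q => (basePts.all fun b => qN q b == b) ||
    (!(basePts.all fun b => qN q (qN q b) == b) || (decide (sylWit.getD q 0 < 22275) &&
      basePts.all fun b => qN q b == cN (sylWit.getD q 0 % 11) (sylWit.getD q 0 / 11) b))) = true := by
  decide +kernel

end CfsgLib.Spor.McLPerm.Cent
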