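import Cfsg.Agent.Lib.Spor.McLPerm.Out
import Cfsg.Agent.Lib.Spor.McLPerm.CentCheckGen
import Cfsg.Agent.Lib.Spor.McLPerm.CentCheckClass0
import Cfsg.Agent.Lib.Spor.McLPerm.CentCheckClass1
import Cfsg.Agent.Lib.Spor.McLPerm.CentCheckClass2
import Cfsg.Prelude.Def_SporadicB

/-!
The involutions of the McLaughlin group form one class; the centralizer of one of them is a double cover, which
does not split, of the alternating group of degree eight: it permutes eight families of pairs of fixed points.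
-/

set_option autoImplicit false
set_option maxRecDepth 20000
set_option linter.style.haveILetI false

namespace CfsgLib.Spor.McLPerm.Cent

open Cfsg MulAction
open scoped Pointwise

/-! ### The class -/

theorem U_conj : ∀ m < 2025, IsConj (E tI) (U m) := by
  intro m
  induction m using Nat.strong_induction_on with
  | _ m ih =>
    intro hm
    by_cases h0 : m = 0
    · subst h0
      have h := rep_root
      simp only [List.all_eq_true, List.mem_range, beq_iff_eq] at h
      rw [eq_of_does (does_U hm) T_does fun b hb => h b (base_lt hb)]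
    · obtain ⟨⟨hp, hlt⟩, he⟩ := rep_tree hm h0
      set i0 := (repTree.getD m (0, 0)).2
      set p0 := (repTree.getD m (0, 0)).1
      have hd := (T_does.mul (does_conj (i := i0) (by omega) (show p0 < 2025 by omega))).mul T_does
      have e : U m = E tI * (E xI ^ i0 * U p0 * (E xI ^ i0)⁻¹) * E tI :=
        eq_of_does (does_U hm) hd fun b hb => he b (base_lt hb)
      refine (ih p0 hp (by omega)).trans (isConj_iff.2 ⟨E tI * E xI ^ i0, ?_⟩)
      rw [e, mul_inv_rev, inv_eq_of_mul_eq_one_right t_sq]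
      group

/-- A member of the class. -/
noncomputable def mem (k : Fin 22275) : ↥P := E xI ^ (k.1 % 11) * U (k.1 / 11) * (E xI ^ (k.1 % 11))⁻¹

theorem does_mem (k : Fin 22275) : Does (mem k) (cN (k.1 % 11) (k.1 / 11)) :=
  does_conj (by omega) (by have := k.2; omega)

theorem mem_conj (k : Fin 22275) : IsConj (E tI) (mem k) :=
  (U_conj _ (by have := k.2; omega)).trans (isConj_iff.2 ⟨E xI ^ (k.1 % 11), rfl⟩)

theorem sorted_all : ∀ j, j + 1 < 22275 → key (tab sortTab j) < key (tab sortTab (j + 1)) := by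
  have c0 := sorted_check0
  have c1 := sorted_check1
  have c2 := sorted_check2
  simp only [List.all_eq_true, List.mem_range] at c0 c1 c2
  intro j hj
  have h : sortedAt j = true := by
    rcases Nat.lt_or_ge j 7425 with hlt | hge
    · simpa using c0 j hlt
    rcases Nat.lt_or_ge j 14850 with hlt | hge'
    · obtain ⟨d, rfl⟩ := Nat.exists_eq_add_of_le hge
      exact c1 d (by omega)
    · obtain ⟨d, rfl⟩ := Nat.exists_eq_add_of_le hge'
      exact c2 d (by omega)
  simp only [sortedAt, Bool.or_eq_true, decide_eq_true_eq] at h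
  exact h.resolve_left (by omega)

theorem place_all : ∀ k < 22275, tab posTab k < 22275 ∧ tab sortTab (tab posTab k) = k := by
  have c0 := place_check0
  have c1 := place_check1
  have c2 := place_check2
  simp only [List.all_eq_true, List.mem_range] at c0 c1 c2
  intro k hk
  have h : placeAt k = true := by
    rcases Nat.lt_or_ge k 7425 with hlt | hge
    · simpa using c0 k hlt
    rcases Nat.lt_or_ge k 14850 with hlt | hge'
    · obtain ⟨d, rfl⟩ := Nat.exists_eq_add_of_le hge
      exact c1 d (by omega)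
    · obtain ⟨d, rfl⟩ := Nat.exists_eq_add_of_le hge'
      exact c2 d (by omega)
  simp only [placeAt, Bool.and_eq_true, decide_eq_true_eq, beq_iff_eq] at h
  exact h

theorem key_lt {i j : ℕ} (hij : i < j) (hj : j < 22275) : key (tab sortTab i) < key (tab sortTab j) := by
  induction j with
  | zero => omega
  | succ j ih =>
    rcases Nat.lt_succ_iff_lt_or_eq.1 hij with h | h
    · exact (ih h (by omega)).trans (sorted_all j hj)
    · subst h; exact sorted_all i hj

theorem mem_injective : Function.Injective mem := fun k k' e => by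
  have hk : key k.1 = key k'.1 :=
    List.foldl_ext _ _ 0 fun acc b hb => by rw [(does_mem k).congr_base (does_mem k') e hb]
  obtain ⟨hp, he⟩ := place_all k.1 k.2
  obtain ⟨hp', he'⟩ := place_all k'.1 k'.2
  rw [← he, ← he'] at hk
  rcases Nat.lt_trichotomy (tab posTab k.1) (tab posTab k'.1) with h | h | h
  · exact absurd hk (key_lt h hp').ne
  · exact Fin.ext (by rw [← he, h, he'])
  · exact absurd hk.symm (key_lt h hp).ne

/-- The centralizer. -/
noncomputable def C : Subgroup ↥P := Subgroup.centralizer ({E tI} : Set ↥P)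

theorem card_C_le : Nat.card ↥C ≤ 40320 := by
  have := finite_P
  let f : Fin 22275 → orbit (ConjAct ↥P) (E tI) := fun k => ⟨mem k, by
    rw [ConjAct.mem_orbit_conjAct]; exact (mem_conj k).symm⟩
  have hf : Function.Injective f := fun a b h => mem_injective (congrArg Subtype.val h)
  have h1 := Nat.card_le_card_of_injective f hf
  have h2 := Nat.card_congr (orbitProdStabilizerEquivGroup (ConjAct ↥P) (E tI))
  have h3 : Nat.card ↥(stabilizer (ConjAct ↥P) (E tI)) = Nat.card ↥C := by
    refine Nat.card_congr (Equiv.subtypeEquiv ConjAct.ofConjAct.toEquiv fun g => ?_)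
    rw [mem_stabilizer_iff, ConjAct.smul_def, C, Subgroup.mem_centralizer_singleton_iff, mul_inv_eq_iff_eq_mul]
    rfl
  rw [Nat.card_prod, h3, ← Nat.card_congr ConjAct.toConjAct.toEquiv, card_P] at h2
  rw [Nat.card_fin] at h1
  by_contra hlt
  push Not at hlt
  nlinarith

theorem gen_mem {n : ℕ} (hn : n < 4 + genOps.length) : ∃ g ∈ P, Matches g genRows n :=
  exists_of_ops gen_ops P (fun k hk => by
    obtain ⟨g, hg, hm⟩ := gen_matches k hk
    refine ⟨g, hg, fun i => ?_⟩
    have h := gen_seed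
    simp only [List.all_eq_true, List.mem_range, beq_iff_eq] at h
    rw [hm i, h k hk i.1 i.2]) n hn

/-- An element given by the program. -/
noncomputable def G (n : ℕ) : ↥P := if h : n < 4 + genOps.length then ⟨(gen_mem h).choose, (gen_mem h).choose_spec.1⟩ else 1

theorem does_G {n : ℕ} (h : n < 4 + genOps.length) : Does (G n) (look genRows n) := fun i => by
  rw [G, dif_pos h]
  exact (gen_mem h).choose_spec.2 i

theorem gen_bounds : aIdx < 4 + genOps.length ∧ bIdx < 4 + genOps.length := by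
  have h := gen_facts.1
  simp only [Bool.and_eq_true, decide_eq_true_eq] at h
  exact ⟨h.2.1, h.2.2.1⟩

theorem seed_rows : ∀ b < 275, look cenRows 2 b = tN b ∧ look cenRows 0 b = look genRows aIdx b ∧
    look cenRows 1 b = look genRows bIdx b := by
  have h := gen_facts.1
  simp only [Bool.and_eq_true, decide_eq_true_eq, List.all_eq_true, List.mem_range, beq_iff_eq] at h
  exact fun b hb => (h.2.2.2 b hb).2

/-- The generated group. -/
noncomputable def K : Subgroup ↥P := Subgroup.closure {G aIdx, G bIdx, E tI}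

theorem gen_comm : G aIdx * E tI = E tI * G aIdx ∧ G bIdx * E tI = E tI * G bIdx := by
  have h := gen_facts.2
  simp only [Bool.and_eq_true, List.all_eq_true, beq_iff_eq] at h
  exact ⟨eq_of_does ((does_G gen_bounds.1).mul T_does) (T_does.mul (does_G gen_bounds.1))
      fun b hb => (h b hb).1.symm,
    eq_of_does ((does_G gen_bounds.2).mul T_does) (T_does.mul (does_G gen_bounds.2))
      fun b hb => (h b hb).2.symm⟩

theorem K_le : K ≤ C := (Subgroup.closure_le _).2 fun x hx => by
  rw [SetLike.mem_coe, C, Subgroup.mem_centralizer_singleton_iff]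
  rcases hx with rfl | rfl | rfl
  · exact gen_comm.1
  · exact gen_comm.2
  · rfl

theorem cen_mem {n : ℕ} (hn : n < 3 + cenOps.length) : ∃ g ∈ K.map P.subtype, Matches g cenRows n :=
  exists_of_ops cen_ops _ (fun k hk => by
    interval_cases k
    · exact ⟨_, ⟨_, Subgroup.subset_closure (Or.inl rfl), rfl⟩, fun i =>
        (does_G gen_bounds.1 i).trans (seed_rows i.1 i.2).2.1.symm⟩
    · exact ⟨_, ⟨_, Subgroup.subset_closure (Or.inr (Or.inl rfl)), rfl⟩, fun i =>
        (does_G gen_bounds.2 i).trans (seed_rows i.1 i.2).2.2.symm⟩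
    · exact ⟨_, ⟨_, Subgroup.subset_closure (Or.inr (Or.inr rfl)), rfl⟩, fun i =>
        (T_does i).trans (seed_rows i.1 i.2).1.symm⟩) n hn

theorem card_K : Nat.card ↥K = 40320 ∧ K = C := by
  have := finite_P
  have h := card_chain (H := K.map P.subtype) (fun n hn => cen_mem hn) cen_chain.1
  rw [cen_chain.2, Subgroup.card_map_of_injective P.subtype_injective] at h
  have h1 : 40320 ≤ Nat.card ↥K := (Nat.le_mul_of_pos_right _ Nat.card_pos).trans h
  have h2 := Subgroup.card_le_of_le K_le
  have h3 := card_C_le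
  exact ⟨by omega, Subgroup.eq_of_le_of_card_ge K_le (by omega)⟩

theorem t_ne_one : E tI ≠ 1 := fun e => by
  have h := cen_root.2.2
  simp only [List.any_eq_true, Bool.not_eq_true', beq_eq_false_iff_ne] at h
  obtain ⟨b, hb, hne⟩ := h
  exact hne (T_does.congr_base does_one e hb)

theorem t_mem_K : E tI ∈ K := Subgroup.subset_closure (Or.inr (Or.inr rfl))

theorem exists_root : ∃ c ∈ K, c * c = E tI := by
  obtain ⟨hlt, h, -⟩ := cen_root
  obtain ⟨_, ⟨c, hc, rfl⟩, hm⟩ := cen_mem hlt
  simp only [List.all_eq_true, beq_iff_eq] at h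
  have hd : Does c (look cenRows rootIdx) := hm
  exact ⟨c, hc, eq_of_does (hd.mul hd) T_does h⟩

/-! ### The eight families -/

/-- A family. -/
def F (i : Fin 8) : Finset (Fin 275 × Fin 275) :=
  ((fams.getD i.1 []).map fun c => (pnt (c / 275), pnt (c % 275))).toFinset

theorem pair_inj {c c' : ℕ} (h : c < 75625) (h' : c' < 75625)
    (e : ((pnt (c / 275), pnt (c % 275)) : Fin 275 × Fin 275) = (pnt (c' / 275), pnt (c' % 275))) : c = c' := by
  simp only [Prod.mk.injEq, Fin.ext_iff] at e
  rw [pnt_val (by omega), pnt_val (by omega), pnt_val (Nat.mod_lt _ (by norm_num)),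
    pnt_val (Nat.mod_lt _ (by norm_num))] at e
  omega

theorem fam_spec (i : Fin 8) : (fams.getD i.1 []).length = 140 ∧ (fams.getD i.1 []).Nodup ∧
    ∀ c ∈ fams.getD i.1 [], c < 75625 := by
  have h := fam_facts.1
  simp only [List.all_eq_true, List.mem_range, Bool.and_eq_true, decide_eq_true_eq] at h
  exact h i.1 i.2

theorem mem_F_iff {i : Fin 8} {c : ℕ} (hc : c < 75625) :
    ((pnt (c / 275), pnt (c % 275)) : Fin 275 × Fin 275) ∈ F i ↔ c ∈ fams.getD i.1 [] := by
  rw [F, List.mem_toFinset, List.mem_map]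
  exact ⟨fun ⟨c', hc', e⟩ => pair_inj ((fam_spec i).2.2 c' hc') hc e ▸ hc', fun h => ⟨c, h, rfl⟩⟩

theorem card_F (i : Fin 8) : (F i).card = 140 := by
  obtain ⟨hl, hn, hlt⟩ := fam_spec i
  rw [F, List.toFinset_card_of_nodup, List.length_map, hl]
  exact hn.map_on fun c hc c' hc' e => pair_inj (hlt c hc) (hlt c' hc') e

theorem F_injective : Function.Injective F := fun i j e => by
  by_contra hne
  have h := fam_facts.2
  simp only [List.all_eq_true, List.mem_range, Bool.or_eq_true, decide_eq_true_eq, List.any_eq_true,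
    Bool.not_eq_true'] at h
  obtain ⟨c, hc, hc'⟩ := (h i.1 i.2 j.1 j.2).resolve_left (fun h' => hne (Fin.ext h'))
  have hlt := (fam_spec i).2.2 c hc
  have hm : ((pnt (c / 275), pnt (c % 275)) : Fin 275 × Fin 275) ∈ F j := e ▸ (mem_F_iff hlt).2 hc
  rw [mem_F_iff hlt, ← List.contains_iff_mem, hc'] at hm
  exact Bool.false_ne_true hm

/-- Moving a family. -/
noncomputable def mv (g : ↥P) (s : Finset (Fin 275 × Fin 275)) : Finset (Fin 275 × Fin 275) :=
  s.image fun p => (g.1 p.1, g.1 p.2)

theorem mv_mul (g h : ↥P) (s : Finset (Fin 275 × Fin 275)) : mv (g * h) s = mv g (mv h s) := by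
  rw [mv, mv, mv, Finset.image_image]; rfl

theorem mv_one (s : Finset (Fin 275 × Fin 275)) : mv 1 s = s := by
  rw [mv]; simp

theorem mv_seed {x : ↥P} {k : ℕ} (hk : k < 3) (hx : Does x (look cenRows k)) (i : Fin 8) :
    ∃ j : Fin 8, j.1 = look imgRows k i.1 ∧ mv x (F i) = F j := by
  have h := img_seed.1
  simp only [List.all_eq_true, List.mem_range, Bool.and_eq_true, decide_eq_true_eq, famStep,
    List.contains_iff_mem] at h
  obtain ⟨hj, hs⟩ := (h k hk).1 i.1 i.2
  refine ⟨⟨_, hj⟩, rfl, Finset.eq_of_subset_of_card_le (fun p hp => ?_) ?_⟩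
  · rw [mv, Finset.mem_image] at hp
    obtain ⟨q, hq, rfl⟩ := hp
    rw [F, List.mem_toFinset, List.mem_map] at hq
    obtain ⟨c, hc, rfl⟩ := hq
    have hlt := (fam_spec i).2.2 c hc
    have hm := hs c hc
    have e1 := hx (pnt (c / 275))
    have e2 := hx (pnt (c % 275))
    rw [pnt_val (by omega)] at e1
    rw [pnt_val (Nat.mod_lt _ (by norm_num))] at e2
    have b1 := (x.1 (pnt (c / 275))).2
    have b2 := (x.1 (pnt (c % 275))).2
    rw [e1] at b1
    rw [e2] at b2
    rw [F, List.mem_toFinset, List.mem_map]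
    refine ⟨_, hm, Prod.ext (Fin.ext ?_) (Fin.ext ?_)⟩
    · rw [pnt_val (by omega), e1]; omega
    · rw [pnt_val (Nat.mod_lt _ (by norm_num)), e2]; omega
  · rw [mv, card_F, Finset.card_image_of_injective _ (fun p q e => by
      simp only [Prod.mk.injEq] at e
      exact Prod.ext (x.1.injective e.1) (x.1.injective e.2)), card_F]

theorem exists_sigma {x : ↥P} (hx : x ∈ K) : ∃ σ : Equiv.Perm (Fin 8), ∀ i, mv x (F i) = F (σ i) := by
  have seed : ∀ k < 3, ∀ y : ↥P, Does y (look cenRows k) → ∃ σ : Equiv.Perm (Fin 8), ∀ i, mv y (F i) = F (σ i) := by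
    intro k hk y hy
    choose j hj1 hj2 using mv_seed hk hy
    have hinj : Function.Injective j := fun a b e => by
      apply F_injective
      have h1 := congrArg (mv y⁻¹) (show mv y (F a) = mv y (F b) by rw [hj2, hj2, e])
      rwa [← mv_mul, ← mv_mul, inv_mul_cancel, mv_one, mv_one] at h1
    exact ⟨Equiv.ofBijective j (Finite.injective_iff_bijective.1 hinj), hj2⟩
  induction hx using Subgroup.closure_induction with
  | mem y hy =>
    rcases hy with rfl | rfl | rfl
    · exact seed 0 (by norm_num) _ fun i => (does_G gen_bounds.1 i).trans (seed_rows i.1 i.2).2.1.symm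
    · exact seed 1 (by norm_num) _ fun i => (does_G gen_bounds.2 i).trans (seed_rows i.1 i.2).2.2.symm
    · exact seed 2 (by norm_num) _ fun i => (T_does i).trans (seed_rows i.1 i.2).1.symm
  | one => exact ⟨1, fun i => mv_one _⟩
  | mul a b _ _ ha hb =>
    obtain ⟨σ, hσ⟩ := ha
    obtain ⟨τ, hτ⟩ := hb
    exact ⟨σ * τ, fun i => by rw [mv_mul, hτ, hσ]; rfl⟩
  | inv a _ ha =>
    obtain ⟨σ, hσ⟩ := ha
    refine ⟨σ⁻¹, fun i => ?_⟩
    conv_lhs => rw [show F i = mv a (F (σ⁻¹ i)) by rw [hσ, Equiv.Perm.inv_def, Equiv.apply_symm_apply],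
      ← mv_mul, inv_mul_cancel, mv_one]

/-- The action on the families. -/
noncomputable def phi : ↥K →* Equiv.Perm (Fin 8) where
  toFun x := (exists_sigma x.2).choose
  map_one' := Equiv.ext fun i => F_injective (by
    rw [← (exists_sigma (x := ((1 : ↥K) : ↥P)) (Subtype.mem _)).choose_spec i]; exact mv_one _)
  map_mul' x y := Equiv.ext fun i => F_injective (by
    rw [← (exists_sigma (x * y).2).choose_spec i, Subgroup.coe_mul, mv_mul, (exists_sigma y.2).choose_spec,
      (exists_sigma x.2).choose_spec]; rfl)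

theorem phi_spec (x : ↥K) (i : Fin 8) : mv (x : ↥P) (F i) = F (phi x i) := (exists_sigma x.2).choose_spec i

theorem phi_seed {x : ↥K} {k : ℕ} (hk : k < 3) (hx : Does (x : ↥P) (look cenRows k)) (i : Fin 8) :
    (phi x i).1 = look imgRows k i.1 := by
  obtain ⟨j, hj, he⟩ := mv_seed hk hx i
  rw [phi_spec] at he
  rw [F_injective he, hj]

/-- The eight letters among the points. -/
def emb : Fin 8 ↪ Fin 275 := Fin.castLEEmb (by norm_num)

theorem card_range : 20160 ≤ Nat.card ↥phi.range := by
  set e : Equiv.Perm (Fin 8) →* Equiv.Perm (Fin 275) := Equiv.Perm.viaEmbeddingHom emb with hedef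
  have he : Function.Injective e := Equiv.Perm.viaEmbeddingHom_injective emb
  have hseed : ∀ k < 3, ∃ g ∈ phi.range.map e, Matches g imgRows k := by
    intro k hk
    obtain ⟨x, hx⟩ : ∃ x : ↥K, Does (x : ↥P) (look cenRows k) := by
      interval_cases k
      · exact ⟨⟨_, Subgroup.subset_closure (Or.inl rfl)⟩, fun i =>
          (does_G gen_bounds.1 i).trans (seed_rows i.1 i.2).2.1.symm⟩
      · exact ⟨⟨_, Subgroup.subset_closure (Or.inr (Or.inl rfl))⟩, fun i =>
          (does_G gen_bounds.2 i).trans (seed_rows i.1 i.2).2.2.symm⟩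
      · exact ⟨⟨_, t_mem_K⟩, fun i => (T_does i).trans (seed_rows i.1 i.2).1.symm⟩
    refine ⟨e (phi x), ⟨_, ⟨x, rfl⟩, rfl⟩, fun b => ?_⟩
    by_cases hb : b.1 < 8
    · rw [hedef, Equiv.Perm.viaEmbeddingHom_apply, show b = emb ⟨b.1, hb⟩ from rfl,
        Equiv.Perm.viaEmbedding_apply]
      exact phi_seed hk hx ⟨b.1, hb⟩
    · rw [hedef, Equiv.Perm.viaEmbeddingHom_apply, Equiv.Perm.viaEmbedding_apply_of_notMem]
      · have h := img_seed.1
        simp only [List.all_eq_true, List.mem_range, Bool.and_eq_true, Bool.or_eq_true, decide_eq_true_eq,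
          beq_iff_eq] at h
        exact (((h k hk).2 b.1 b.2).resolve_left hb).symm
      · rintro ⟨a, rfl⟩
        exact hb a.2
  have h := card_chain (H := phi.range.map e) (fun n hn => exists_of_ops img_ops _ hseed n hn) img_chain.1
  rw [img_chain.2, Subgroup.card_map_of_injective he] at h
  exact (Nat.le_mul_of_pos_right _ Nat.card_pos).trans h

theorem t_ker : (⟨E tI, t_mem_K⟩ : ↥K) ∈ phi.ker := by
  rw [MonoidHom.mem_ker]
  refine Equiv.ext fun i => Fin.ext ?_
  rw [phi_seed (k := 2) (by norm_num) (fun b => (T_does b).trans (seed_rows b.1 b.2).1.symm)]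
  have h := img_seed.2
  simp only [List.all_eq_true, List.mem_range, beq_iff_eq] at h
  exact h i.1 i.2

theorem ker_and_range : Nat.card ↥phi.ker = 2 ∧ phi.range = alternatingGroup (Fin 8) := by
  have := finite_P
  haveI : Fact (Nat.Prime 2) := ⟨Nat.prime_two⟩
  have ht2 : orderOf (⟨E tI, t_mem_K⟩ : ↥K) = 2 := by
    rw [← Subgroup.orderOf_coe]
    exact orderOf_eq_prime (by rw [pow_two, t_sq]) t_ne_one
  have hker : 2 ≤ Nat.card ↥phi.ker := ht2 ▸ Nat.le_of_dvd Nat.card_pos (Subgroup.orderOf_dvd_natCard _ t_ker)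
  have h := Subgroup.card_eq_card_quotient_mul_card_subgroup phi.ker
  rw [Nat.card_congr (QuotientGroup.quotientKerEquivRange phi).toEquiv, card_K.1] at h
  have hr := card_range
  have hmul : Nat.card ↥phi.range * 2 ≤ 40320 := h ▸ Nat.mul_le_mul_left _ hker
  have hr' : Nat.card ↥phi.range = 20160 := by omega
  rw [hr'] at h
  refine ⟨by omega, Equiv.Perm.eq_alternatingGroup_of_index_eq_two ?_⟩
  have hi := phi.range.index_mul_card
  rw [hr', Nat.card_perm, Nat.card_fin] at hi
  exact Nat.eq_of_mul_eq_mul_right (show 0 < 20160 by norm_num)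
    (hi.trans (by decide +kernel : Nat.factorial 8 = 2 * 20160))

theorem center_K : Subgroup.center ↥K = phi.ker := by
  have := finite_P
  have hA : Subgroup.center ↥(alternatingGroup (Fin 8)) = ⊥ := by
    haveI := alternatingGroup.isSimpleGroup (α := Fin 8) (by simp)
    refine ((inferInstance : (Subgroup.center ↥(alternatingGroup (Fin 8))).Normal).eq_bot_or_eq_top).resolve_right ?_
    intro h
    have hc : ∀ a b : ↥(alternatingGroup (Fin 8)), a * b = b * a := fun a b =>
      (Subgroup.mem_center_iff.1 (h ▸ Subgroup.mem_top b) a)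
    have h1 : (Equiv.swap 0 1 * Equiv.swap 1 2 : Equiv.Perm (Fin 8)) ∈ alternatingGroup (Fin 8) := by
      rw [Equiv.Perm.mem_alternatingGroup]; simp [Equiv.Perm.sign_swap]
    have h2 : (Equiv.swap 1 2 * Equiv.swap 2 3 : Equiv.Perm (Fin 8)) ∈ alternatingGroup (Fin 8) := by
      rw [Equiv.Perm.mem_alternatingGroup]; simp [Equiv.Perm.sign_swap]
    have h3 : (Equiv.swap 0 1 * Equiv.swap 1 2 : Equiv.Perm (Fin 8)) * (Equiv.swap 1 2 * Equiv.swap 2 3) ≠
        (Equiv.swap 1 2 * Equiv.swap 2 3) * (Equiv.swap 0 1 * Equiv.swap 1 2) := fun e =>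
      absurd (congrArg (fun σ : Equiv.Perm (Fin 8) => σ 1) e) (by simp [Equiv.swap_apply_of_ne_of_ne])
    exact h3 (congrArg Subtype.val (hc ⟨_, h1⟩ ⟨_, h2⟩))
  refine le_antisymm (fun x hx => ?_) (fun x hx => ?_)
  · rw [MonoidHom.mem_ker]
    have hm : phi x ∈ alternatingGroup (Fin 8) := ker_and_range.2 ▸ ⟨x, rfl⟩
    have : (⟨phi x, hm⟩ : ↥(alternatingGroup (Fin 8))) ∈ Subgroup.center ↥(alternatingGroup (Fin 8)) := by
      rw [Subgroup.mem_center_iff]
      rintro ⟨g, hg⟩
      rw [← ker_and_range.2] at hg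
      obtain ⟨y, rfl⟩ := hg
      refine Subtype.ext ?_
      show phi y * phi x = phi x * phi y
      rw [← map_mul, ← map_mul, Subgroup.mem_center_iff.1 hx y]
    rw [hA, Subgroup.mem_bot] at this
    exact congrArg Subtype.val this
  · obtain ⟨a, b, hab, huniv⟩ := Nat.card_eq_two_iff.1 ker_and_range.1
    have hone : x = 1 ∨ x = ⟨E tI, t_mem_K⟩ := by
      have hcases : ∀ z : ↥phi.ker, z = a ∨ z = b := fun z => by
        have := huniv ▸ Set.mem_univ z
        simpa using this
      have hne : (⟨_, t_ker⟩ : ↥phi.ker) ≠ 1 := fun e => t_ne_one (congrArg (fun z : ↥phi.ker => ((z : ↥K) : ↥P)) e)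
      rcases hcases ⟨x, hx⟩ with e | e <;> rcases hcases 1 with e1 | e1 <;> rcases hcases ⟨_, t_ker⟩ with et | et
      all_goals first
        | exact Or.inl (congrArg Subtype.val (e.trans e1.symm))
        | exact Or.inr (congrArg Subtype.val (e.trans et.symm))
        | exact absurd (et.trans e1.symm) hne
    rcases hone with rfl | rfl
    · exact one_mem _
    · rw [Subgroup.mem_center_iff]
      intro g
      have := Subgroup.mem_centralizer_singleton_iff.1 (K_le g.2)
      exact Subtype.ext this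

theorem isNonsplit : Cfsg.IsNonsplitDoubleCover ↥K ↥(alternatingGroup (Fin 8)) := by
  refine ⟨center_K ▸ ker_and_range.1, ⟨((QuotientGroup.quotientMulEquivOfEq center_K).trans
    (QuotientGroup.quotientKerEquivRange phi)).trans (MulEquiv.subgroupCongr ker_and_range.2)⟩, fun L hL => ?_⟩
  obtain ⟨c, hc, hcc⟩ := exists_root
  have ht : (⟨E tI, t_mem_K⟩ : ↥K) ∈ Subgroup.center ↥K := center_K ▸ t_ker
  obtain ⟨⟨z, l⟩, e⟩ := hL.2 ⟨c, hc⟩
  have e' : (z : ↥K) * (l : ↥K) = ⟨c, hc⟩ := e
  have hzc : ∀ g : ↥K, g * (z : ↥K) = (z : ↥K) * g := Subgroup.mem_center_iff.1 z.2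
  have hz2 : (z : ↥K) * (z : ↥K) = 1 := by
    have h2 : (z : ↥K) ^ 2 = 1 := by
      have h := pow_card_eq_one' (x := (⟨z, z.2⟩ : ↥(Subgroup.center ↥K)))
      have hcard : Nat.card ↥(Subgroup.center ↥K) = 2 := by rw [center_K]; exact ker_and_range.1
      rw [hcard] at h
      exact congrArg Subtype.val h
    rwa [pow_two] at h2
  have hl : (⟨E tI, t_mem_K⟩ : ↥K) = (l : ↥K) * (l : ↥K) := by
    have h1 : (⟨E tI, t_mem_K⟩ : ↥K) = (⟨c, hc⟩ : ↥K) * ⟨c, hc⟩ := Subtype.ext hcc.symm
    rw [h1, ← e', show (z : ↥K) * l * (z * l) = (z : ↥K) * ((l : ↥K) * z) * l by group, hzc (l : ↥K),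
      ← mul_assoc, hz2, one_mul]
  have hbot : (⟨E tI, t_mem_K⟩ : ↥K) ∈ (⊥ : Subgroup ↥K) :=
    hL.disjoint.le_bot ⟨ht, hl ▸ L.mul_mem l.2 l.2⟩
  exact t_ne_one (congrArg Subtype.val (Subgroup.mem_bot.1 hbot))

theorem one_class (x : ↥P) (hx : orderOf x = 2) : IsConj (E tI) x := by
  have := finite_P
  haveI : Fact (Nat.Prime 2) := ⟨Nat.prime_two⟩
  have hcard : Nat.card ↥S2 = 2 ^ (Nat.card ↥P).factorization 2 := by
    rw [card_S2, card_P, multiplicities.1]; norm_num
  have hp : IsPGroup 2 ↥(Subgroup.zpowers x) := IsPGroup.of_card (n := 1) (by rw [Nat.card_zpowers, hx, pow_one])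
  obtain ⟨Q', hQ⟩ := hp.exists_le_sylow
  obtain ⟨a, ha⟩ := MulAction.exists_smul_eq ↥P Q' (Sylow.ofCard _ hcard)
  have hmem : a * x * a⁻¹ ∈ S2 := by
    have e := congrArg (fun S : Sylow 2 ↥P => (S : Subgroup ↥P)) ha
    simp only [Sylow.coe_subgroup_smul, Sylow.coe_ofCard] at e
    rw [← e]
    exact ⟨x, hQ (Subgroup.mem_zpowers x), rfl⟩
  obtain ⟨q, hq, hqe⟩ := mem_S2 hmem
  have hord : orderOf (Q q) = 2 := by
    rw [hqe, ← MulAut.conj_apply, MulEquiv.orderOf_eq, hx]
  have h := syl_wit
  simp only [List.all_eq_true, List.mem_range, Bool.or_eq_true, Bool.and_eq_true, decide_eq_true_eq,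
    Bool.not_eq_true', List.all_eq_false, beq_iff_eq] at h
  rcases h q hq with h1 | ⟨b, hb, h1⟩ | ⟨hlt, h1⟩
  · rw [eq_of_does (does_Q hq) does_one h1, orderOf_one] at hord
    norm_num at hord
  · refine absurd (((does_Q hq).mul (does_Q hq)).congr_base does_one ?_ hb) h1
    rw [← pow_two, ← hord, pow_orderOf_eq_one]
  · have e : Q q = mem ⟨_, hlt⟩ := eq_of_does (does_Q hq) (does_mem _) h1
    exact (mem_conj _).trans (isConj_iff.2 ⟨a⁻¹, by rw [← e, hqe]; group⟩)

theorem transfer {H H' A : Type*} [Group H] [Group H'] [Group A] (e : H ≃* H')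
    (h : Cfsg.IsNonsplitDoubleCover H A) : Cfsg.IsNonsplitDoubleCover H' A := by
  obtain ⟨h1, ⟨q⟩, h3⟩ := h
  have hc : (Subgroup.center H).map e.toMonoidHom = Subgroup.center H' := by
    ext y
    rw [Subgroup.mem_map_equiv, Subgroup.mem_center_iff, Subgroup.mem_center_iff]
    constructor
    · intro hy g
      have := congrArg e (hy (e.symm g))
      simpa using this
    · intro hy g
      apply e.injective
      simpa using hy (e g)
  refine ⟨?_, ⟨(QuotientGroup.congr _ _ e hc).symm.trans q⟩, fun L hL => h3 (L.map e.symm.toMonoidHom) ?_⟩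
  · rw [← hc, Subgroup.card_map_of_injective (f := e.toMonoidHom) e.injective, h1]
  · have hc' : (Subgroup.center H').map e.symm.toMonoidHom = Subgroup.center H := by
      rw [← hc, Subgroup.map_map]
      ext x
      simp [Subgroup.mem_map]
    refine ⟨?_, ?_⟩
    · rintro ⟨z, l⟩ ⟨z', l'⟩ h
      have hz : ∀ w : ↥(Subgroup.center H), e w ∈ Subgroup.center H' := fun w => hc ▸ ⟨w, w.2, rfl⟩
      have hl : ∀ w : ↥(L.map e.symm.toMonoidHom), e w ∈ L := fun w => by
        obtain ⟨y, hy, hye⟩ := w.2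
        rw [← hye]
        simpa using hy
      have := hL.1 (a₁ := (⟨_, hz z⟩, ⟨_, hl l⟩)) (a₂ := (⟨_, hz z'⟩, ⟨_, hl l'⟩)) (by
        show e (z : H) * e (l : H) = e (z' : H) * e (l' : H)
        rw [← map_mul, ← map_mul]
        exact congrArg e h)
      simp only [Prod.mk.injEq, Subtype.mk.injEq, EmbeddingLike.apply_eq_iff_eq] at this
      exact Prod.ext (Subtype.ext this.1) (Subtype.ext this.2)
    · intro x
      obtain ⟨⟨z, l⟩, h⟩ := hL.2 (e x)
      refine ⟨(⟨e.symm z, hc' ▸ ⟨z, z.2, rfl⟩⟩, ⟨e.symm l, ⟨l, l.2, rfl⟩⟩), ?_⟩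
      show e.symm (z : H') * e.symm (l : H') = x
      rw [← map_mul, show (z : H') * (l : H') = e x from h, MulEquiv.symm_apply_apply]

theorem main : (∀ x y : ↥Spor.McL, orderOf x = 2 → orderOf y = 2 → IsConj x y) ∧
    ∃ t : ↥Spor.McL, orderOf t = 2 ∧
      Cfsg.IsNonsplitDoubleCover ↥(Subgroup.centralizer ({t} : Set ↥Spor.McL)) ↥(alternatingGroup (Fin 8)) := by
  obtain ⟨e⟩ := nonempty_equiv_McL
  haveI : Fact (Nat.Prime 2) := ⟨Nat.prime_two⟩
  refine ⟨fun x y hx hy => ?_, e.symm (E tI), ?_, ?_⟩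
  · obtain ⟨a, ha⟩ := isConj_iff.1 ((one_class (e x) (by rw [MulEquiv.orderOf_eq, hx])).symm.trans
      (one_class (e y) (by rw [MulEquiv.orderOf_eq, hy])))
    exact isConj_iff.2 ⟨e.symm a, e.injective (by rw [map_mul, map_mul, map_inv, e.apply_symm_apply, ha])⟩
  · rw [MulEquiv.orderOf_eq]
    exact orderOf_eq_prime (by rw [pow_two, t_sq]) t_ne_one
  · have hmap : (Subgroup.centralizer ({e.symm (E tI)} : Set ↥Spor.McL)).map e.toMonoidHom = C := by
      ext y
      rw [Subgroup.mem_map_equiv, C, Subgroup.mem_centralizer_singleton_iff, Subgroup.mem_centralizer_singleton_iff,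
        ← map_mul, ← map_mul, e.symm.injective.eq_iff]
    exact transfer ((e.subgroupMap (Subgroup.centralizer ({e.symm (E tI)} : Set ↥Spor.McL))).trans
      ((MulEquiv.subgroupCongr hmap).trans (MulEquiv.subgroupCongr card_K.2.symm))).symm isNonsplit

end CfsgLib.Spor.McLPerm.Cent
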