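import Cfsg.Agent.Lib.Spor.McLPerm.Cert
import Cfsg.Agent.Lib.Spor.McLPerm.Data
import Cfsg.Agent.Lib.Spor.McLPerm.OutData

/-!
The functions on numbers used by the checks for the automorphisms of the McLaughlin group.
-/

set_option autoImplicit false

namespace CfsgLib.Spor.McLPerm

/-- The element of order eleven. -/
def xI : ℕ := 724

/-- The involution. -/
def tI : ℕ := 728

/-- The central involution of the Sylow two-subgroup. -/
def zI : ℕ := 732

/-- An element normalizing the subgroup of order eleven. -/
def yI : ℕ := 736

/-- The element conjugating the central involution to the chosen one. -/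
def dI : ℕ := 740

/-- Iterates on numbers. -/
def itN (f : ℕ → ℕ) : ℕ → ℕ → ℕ
  | 0, b => b
  | n + 1, b => f (itN f n b)

/-- The element of order eleven on numbers. -/
def xN (b : ℕ) : ℕ := look eltRows xI b

/-- The involution on numbers. -/
def tN (b : ℕ) : ℕ := look eltRows tI b

/-- A representative on numbers. -/
def uN (m b : ℕ) : ℕ := look repRows m b

/-- A power of the element of order eleven on numbers. -/
def xpN (i b : ℕ) : ℕ := look xPows i b

/-- The other involution. -/
def t2I : ℕ := 720

/-- The conjugate of a representative by a power of the element of order eleven. -/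
def cN (i m b : ℕ) : ℕ := xpN i (uN m (xpN (11 - i) b))

/-- The tabulated image of a conjugate. -/
def tabN (k : ℕ) : ℕ := (repTab.getD (k / 440) 0 >>> (15 * (k % 440))) &&& 32767

/-- An element of the Sylow two-subgroup on numbers. -/
def qN (q b : ℕ) : ℕ := look eltRows (sylIdx.getD q 0) b

/-- A generator of the Sylow two-subgroup on numbers. -/
def sgN (k b : ℕ) : ℕ := look eltRows (sylGens.getD k 0) b

/-- The tabulated product in the Sylow two-subgroup. -/
def sylN (k q : ℕ) : ℕ := (sylTab >>> (7 * (128 * k + q))) &&& 127

/-- The key of an element of the Sylow two-subgroup: its images of the base points. -/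
def qKey (q : ℕ) : ℕ := basePts.foldl (fun acc b => 512 * acc + qN q b) 0

/-- The tests on a product with powers of the element of order eleven, given the powers. -/
def goodN (f : ℕ → ℕ → ℕ) (m : ℕ) : Bool :=
  (basePts.all fun b => itN (fun c => f 5 (uN m c)) 7 b == b) &&
    (basePts.all fun b => itN (fun c => f 1 (uN m (f 2 (uN m (f 3 (uN m c)))))) 3 b == b)

/-- The outer permutation on numbers. -/
def sN (b : ℕ) : ℕ := look sigRows 0 b

/-- Its inverse on numbers. -/
def sN' (b : ℕ) : ℕ := look sigRows 1 b

end CfsgLib.Spor.McLPerm
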