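import Cfsg.Agent.Lib.Spor.McLPerm.Cert
import Cfsg.Agent.Lib.Spor.McLPerm.Num
import Cfsg.Agent.Lib.Spor.McLPerm.CentData

/-!
Functions on numbers for the centralizer of an involution.
-/

set_option autoImplicit false

namespace CfsgLib.Spor.McLPerm.Cent

/-- A fifteen-bit entry of a table in blocks of 440. -/
def tab (L : List ℕ) (k : ℕ) : ℕ := (L.getD (k / 440) 0 >>> (15 * (k % 440))) &&& 32767

/-- The key of a member of the class. -/
def key (k : ℕ) : ℕ := basePts.foldl (fun acc b => 512 * acc + cN (k % 11) (k / 11) b) 0

/-- A pair maps into a family. -/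
def famStep (g : ℕ) (i : ℕ) : Bool :=
  (fams.getD i []).all fun c => (fams.getD (look imgRows g i) []).contains
    (275 * look cenRows g (c / 275) + look cenRows g (c % 275))

/-- Adjacent members of the sorted class have increasing keys. -/
def sortedAt (j : ℕ) : Bool := decide (j = 22274) || decide (key (tab sortTab j) < key (tab sortTab (j + 1)))

/-- A member is found at its place. -/
def placeAt (k : ℕ) : Bool := decide (tab posTab k < 22275) && (tab sortTab (tab posTab k) == k)

end CfsgLib.Spor.McLPerm.Cent
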