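import Cfsg.Agent.Lib.Spor.McLPerm.Num

/-!
Part of the closure of the class of involutions.
-/

set_option autoImplicit false
set_option maxRecDepth 20000

namespace CfsgLib.Spor.McLPerm

theorem cls_check2 : ((List.range 675).all fun m => (List.range 11).all fun i =>
    let v := tabN (11 * (1350 + m) + i)
    decide (v < 22275) && basePts.all fun b => tN (cN i (1350 + m) (tN b)) == cN (v % 11) (v / 11) b) = true := by
  decide +kernel

end CfsgLib.Spor.McLPerm
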