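import Cfsg.Agent.Lib.Spor.McLPerm.Num

/-!
The representatives of the class of involutions.
-/

set_option autoImplicit false
set_option maxRecDepth 20000

namespace CfsgLib.Spor.McLPerm

theorem pow_check : ((List.range 12).all fun i => (List.range 275).all fun b => xpN i b == itN xN i b) = true := by
  decide +kernel

theorem rep_root : ((List.range 275).all fun b => uN 0 b == tN b) = true := by decide +kernel

theorem good_check : ((List.range 2025).all fun m => !(goodN (fun i => xpN (11 - i)) m) &&
    (!(goodN xpN m) || (List.range 11).any fun j => [tI, t2I].any fun t =>
      basePts.all fun b => uN m b == xpN j (look eltRows t (xpN (11 - j) b)))) = true ∧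
    goodN xpN 0 = true := by
  decide +kernel

end CfsgLib.Spor.McLPerm
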