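import Cfsg.Agent.Lib.Spor.McLPerm.Num

/-!
Part of the tree of representatives of the class of involutions.
-/

set_option autoImplicit false
set_option maxRecDepth 20000

namespace CfsgLib.Spor.McLPerm

theorem rep_check0 : ((List.range 405).all fun n =>
    let m := 0 + n
    decide (m = 0) ||
    let e := repTree.getD m (0, 0)
    decide (e.1 < m) && decide (e.2 < 11) &&
      (List.range 275).all fun b => uN m b == tN (cN e.2 e.1 (tN b))) = true := by
  decide +kernel

end CfsgLib.Spor.McLPerm
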