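import Cfsg.Agent.Lib.Spor.McLPerm.Num

/-!
The outer permutation.
-/

set_option autoImplicit false
set_option maxRecDepth 20000

namespace CfsgLib.Spor.McLPerm

theorem sig_inv : ((List.range 275).all fun b => decide (sN b < 275) && decide (sN' b < 275) &&
    sN' (sN b) == b && sN (sN' b) == b) = true := by
  decide +kernel

theorem sig_gens : ((List.range 4).all fun k => decide (sigImg.getD k 0 < 891) &&
    (List.range 275).all fun b => sN (look eltRows k b) == look eltRows (sigImg.getD k 0) (sN b)) = true := by
  decide +kernel

theorem sig_pair : ((List.range 275).all fun b => sN (xN b) == xN (sN b) &&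
    sN (tN b) == look eltRows t2I (sN b)) = true := by
  decide +kernel

theorem sift_check : (((transIdx.getD 4 []).map fun j => look eltRows j 4).Nodup) ∧
    ((transIdx.getD 4 []).all fun j => (List.range 275).any fun b =>
      !(look eltRows 890 (look eltRows j b) == sN b)) = true ∧
    ([0, 1, 2, 3].all fun b => look eltRows 890 b == sN b) = true ∧
    transIdx.getD 4 [] = (transIdx.drop 4).getD 0 [] ∧ (transIdx.getD 4 []).length = 8 ∧
    ((transIdx.getD 4 []).all fun j => decide (j < 891) &&
      [0, 1, 2, 3].all fun b => look eltRows j b == b) = true ∧
    chainOK eltRows 891 [] [0, 1, 2, 3] (transIdx.take 4) = true ∧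
    ((transIdx.take 4).map List.length).prod * 8 = 898128000 := by
  decide +kernel

theorem mover_check : look eltRows 146 0 = 0 ∧
    ((List.range 275).all fun b => (b == 0) || !(look eltRows 146 b == b)) = true ∧
    ((transIdx.getD 0 []).all fun n => decide (n < 891)) = true ∧
    ((List.range 275).all fun b => (transIdx.getD 0 []).any fun n => look eltRows n 0 == b) = true := by
  decide +kernel

end CfsgLib.Spor.McLPerm
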