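import Cfsg.Agent.Lib.Spor.McLPerm.Group
import Cfsg.Agent.Lib.Spor.McLPerm.CheckRep
import Cfsg.Agent.Lib.Spor.McLPerm.CheckRep0
import Cfsg.Agent.Lib.Spor.McLPerm.CheckRep1
import Cfsg.Agent.Lib.Spor.McLPerm.CheckRep2
import Cfsg.Agent.Lib.Spor.McLPerm.CheckRep3
import Cfsg.Agent.Lib.Spor.McLPerm.CheckRep4
import Cfsg.Agent.Lib.Spor.McLPerm.CheckClass0
import Cfsg.Agent.Lib.Spor.McLPerm.CheckClass1
import Cfsg.Agent.Lib.Spor.McLPerm.CheckClass2
import Cfsg.Agent.Lib.Spor.McLPerm.CheckSyl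
import Cfsg.Agent.Lib.Spor.McLPerm.CheckGen
import Cfsg.Agent.Lib.Spor.McLPerm.CheckSig
import Cfsg.Prelude.Def_KGroupFacts

/-!
The outer automorphism group of the McLaughlin group: a central involution of a Sylow two-subgroup and
an element of order eleven generate, and up to inner automorphisms an automorphism fixes or inverts the
latter and then moves the former inside a single orbit.
-/

set_option autoImplicit false
set_option maxRecDepth 20000

namespace CfsgLib.Spor.McLPerm

open Cfsg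

theorem finite_P : Finite ↥P := Nat.finite_of_card_ne_zero (by rw [card_P]; norm_num)

/-- An element of the group acts as a function on numbers. -/
def Does (g : ↥P) (f : ℕ → ℕ) : Prop := ∀ i : Fin 275, (g.1 i).1 = f i.1

/-- An element. -/
noncomputable def E (n : ℕ) : ↥P :=
  if h : n < 891 then ⟨(elt_mem h).choose, (elt_mem h).choose_spec.1⟩ else 1

theorem does_E {n : ℕ} (h : n < 891) : Does (E n) (look eltRows n) := fun i => by
  rw [E, dif_pos h]
  exact (elt_mem h).choose_spec.2 i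

theorem does_one : Does 1 id := fun _ => rfl

theorem Does.mul {g h : ↥P} {f f' : ℕ → ℕ} (hg : Does g f) (hh : Does h f') :
    Does (g * h) (fun b => f (f' b)) := fun i => by
  show ((g * h).1 i).1 = f (f' i.1)
  rw [Subgroup.coe_mul, Equiv.Perm.mul_apply, hg, hh]

theorem Does.pow {g : ↥P} {f : ℕ → ℕ} (hg : Does g f) : ∀ n : ℕ, Does (g ^ n) (itN f n)
  | 0 => fun i => by simp [itN]
  | n + 1 => fun i => by
    rw [pow_succ', Subgroup.coe_mul, Equiv.Perm.mul_apply, hg, Does.pow hg n i]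
    rfl

theorem pnt_val {b : ℕ} (hb : b < 275) : (pnt b).1 = b := Nat.mod_eq_of_lt hb

theorem base_lt {b : ℕ} (hb : b ∈ basePts) : b < 275 := by
  have h : ∀ b ∈ basePts, b < 275 := by decide +kernel
  exact h b hb

theorem eq_of_does {g h : ↥P} {f f' : ℕ → ℕ} (hg : Does g f) (hh : Does h f')
    (e : ∀ b ∈ basePts, f b = f' b) : g = h :=
  Subtype.ext (eq_of_base g.2 h.2 fun b hb => Fin.ext (by
    rw [hg, hh, pnt_val (base_lt hb)]; exact e b hb))

theorem Does.congr_base {g : ↥P} {f : ℕ → ℕ} (hg : Does g f) {h : ↥P} {f' : ℕ → ℕ} (hh : Does h f')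
    (e : g = h) {b : ℕ} (hb : b ∈ basePts) : f b = f' b := by
  have h1 := hg (pnt b)
  have h2 := hh (pnt b)
  rw [e, h2, pnt_val (base_lt hb)] at h1
  exact h1.symm

theorem closure_gens : Subgroup.closure (Set.range fun k : Fin 4 => E k.1) = ⊤ := by
  refine eq_top_iff.2 fun g _ => ?_
  have hle : Subgroup.closure genSet ≤ (Subgroup.closure (Set.range fun k : Fin 4 => E k.1)).map P.subtype := by
    refine (Subgroup.closure_le _).2 ?_
    rintro a ⟨ha, k, hk, hm⟩
    refine ⟨E k, Subgroup.subset_closure ⟨⟨k, hk⟩, rfl⟩, ?_⟩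
    exact Equiv.ext fun i => Fin.ext (((does_E (n := k) (by omega)) i).trans (hm i).symm)
  rw [closure_genSet] at hle
  obtain ⟨a, ha, e⟩ := hle g.2
  have h : a = g := Subtype.ext e
  exact h ▸ ha

theorem X_does : Does (E xI) xN := does_E (n := xI) (by decide)

theorem T_does : Does (E tI) tN := does_E (n := tI) (by decide)

theorem x_order : orderOf (E xI) = 11 := by
  obtain ⟨h1, h2, -⟩ := x_facts
  simp only [List.all_eq_true, List.any_eq_true, beq_iff_eq, Bool.not_eq_true', beq_eq_false_iff_ne] at h1 h2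
  have : Fact (Nat.Prime 11) := ⟨by norm_num⟩
  refine orderOf_eq_prime (eq_of_does (X_does.pow 11) does_one h1) fun e => ?_
  obtain ⟨b, hb, hne⟩ := h2
  exact hne (X_does.congr_base does_one e hb)

theorem x_pow_eleven : E xI ^ 11 = 1 := by rw [← x_order, pow_orderOf_eq_one]

theorem x_pow_mod (n : ℕ) : E xI ^ n = E xI ^ (n % 11) := pow_eq_pow_mod n x_pow_eleven

theorem t_sq : E tI * E tI = 1 := by
  have h := x_facts.2.2.1
  simp only [List.all_eq_true, beq_iff_eq] at h
  exact eq_of_does (T_does.mul T_does) does_one h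

theorem y_conj : E yI * E xI * (E yI)⁻¹ = E xI ^ 9 := by
  have h := x_facts.2.2.2.1
  simp only [List.all_eq_true, beq_iff_eq] at h
  rw [mul_inv_eq_iff_eq_mul]
  exact eq_of_does ((does_E (n := yI) (by decide)).mul X_does)
    ((X_does.pow 9).mul (does_E (n := yI) (by decide))) h

theorem t_conj : E tI = E dI * E zI * (E dI)⁻¹ := by
  have h := x_facts.2.2.2.2
  simp only [List.all_eq_true, beq_iff_eq] at h
  rw [eq_mul_inv_iff_mul_eq]
  exact eq_of_does (T_does.mul (does_E (n := dI) (by decide)))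
    ((does_E (n := dI) (by decide)).mul (does_E (n := zI) (by decide))) h

theorem closure_pair : Subgroup.closure ({E xI, E tI} : Set ↥P) = ⊤ := by
  rw [eq_top_iff, ← closure_gens, Subgroup.closure_le]
  rintro _ ⟨k, rfl⟩
  have hs := pair_seed
  have hg := pair_gens
  simp only [List.all_eq_true, List.mem_range, Bool.and_eq_true, decide_eq_true_eq, beq_iff_eq] at hs hg
  obtain ⟨hlt, he⟩ := hg k.1 k.2
  obtain ⟨g, ⟨c, hc, rfl⟩, hm⟩ := exists_of_ops pair_ops
    ((Subgroup.closure ({E xI, E tI} : Set ↥P)).map P.subtype) (fun j hj => by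
      interval_cases j
      · exact ⟨_, ⟨E xI, Subgroup.subset_closure (by simp), rfl⟩, fun i => by
          rw [(hs i.1 i.2).1]; exact X_does i⟩
      · exact ⟨_, ⟨E tI, Subgroup.subset_closure (by simp), rfl⟩, fun i => by
          rw [(hs i.1 i.2).2]; exact T_does i⟩) _ hlt
  have h : c = E k.1 := Subtype.ext (Equiv.ext fun i => Fin.ext
    (((hm i).trans (he i.1 i.2)).trans (does_E (n := k.1) (by omega) i).symm))
  show E k.1 ∈ Subgroup.closure _
  exact h ▸ hc

/-! ### The class of the involution -/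

theorem does_xpow {i : ℕ} (hi : i ≤ 11) : Does (E xI ^ i) (xpN i) := fun b => by
  have h := pow_check
  simp only [List.all_eq_true, List.mem_range, beq_iff_eq] at h
  rw [X_does.pow i b, h i (by omega) b.1 b.2]

theorem rep_tree {m : ℕ} (hm : m < 2025) (h0 : m ≠ 0) :
    ((repTree.getD m (0, 0)).1 < m ∧ (repTree.getD m (0, 0)).2 < 11) ∧ ∀ b < 275,
      uN m b = tN (cN (repTree.getD m (0, 0)).2 (repTree.getD m (0, 0)).1 (tN b)) := by
  have c0 := rep_check0
  have c1 := rep_check1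
  have c2 := rep_check2
  have c3 := rep_check3
  have c4 := rep_check4
  simp only [List.all_eq_true, List.mem_range, Bool.or_eq_true, Bool.and_eq_true, decide_eq_true_eq,
    beq_iff_eq] at c0 c1 c2 c3 c4
  obtain ⟨n, hn, k, hk, rfl⟩ : ∃ n < 405, ∃ k < 5, m = 405 * k + n :=
    ⟨m % 405, Nat.mod_lt _ (by norm_num), m / 405, by omega, (Nat.div_add_mod m 405).symm⟩
  interval_cases k
  · exact (c0 n hn).resolve_left h0
  · exact (c1 n hn).resolve_left h0
  · exact (c2 n hn).resolve_left h0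
  · exact (c3 n hn).resolve_left h0
  · exact (c4 n hn).resolve_left h0

theorem exists_rep : ∀ m < 2025, ∃ g : ↥P, Does g (uN m) := by
  intro m
  induction m using Nat.strong_induction_on with
  | _ m ih =>
    intro hm
    by_cases h0 : m = 0
    · refine ⟨E tI, fun i => ?_⟩
      have h := rep_root
      simp only [List.all_eq_true, List.mem_range, beq_iff_eq] at h
      rw [T_does, h0, h i.1 i.2]
    · obtain ⟨⟨hp, hlt⟩, he⟩ := rep_tree hm h0
      obtain ⟨u, hu⟩ := ih _ hp (by omega)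
      set i0 := (repTree.getD m (0, 0)).2
      exact ⟨E tI * (E xI ^ i0 * (u * E xI ^ (11 - i0)) * E tI), fun i =>
        ((T_does.mul (((does_xpow (i := i0) (by omega)).mul (hu.mul (does_xpow (Nat.sub_le 11 i0)))).mul T_does)) i).trans
          (he i.1 i.2).symm⟩

/-- A representative. -/
noncomputable def U (m : ℕ) : ↥P := if h : m < 2025 then (exists_rep m h).choose else 1

theorem does_U {m : ℕ} (h : m < 2025) : Does (U m) (uN m) := fun i => by
  rw [U, dif_pos h]
  exact (exists_rep m h).choose_spec i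

theorem does_conj {i m : ℕ} (hi : i ≤ 11) (hm : m < 2025) :
    Does (E xI ^ i * U m * (E xI ^ i)⁻¹) (cN i m) := by
  have e : (E xI ^ i)⁻¹ = E xI ^ (11 - i) := by
    rw [inv_eq_iff_mul_eq_one, ← pow_add, Nat.add_sub_cancel' hi, x_pow_eleven]
  rw [e, mul_assoc]
  exact (does_xpow hi).mul ((does_U hm).mul (does_xpow (Nat.sub_le _ _)))

/-- The class. -/
def cls : Set ↥P := {g | ∃ m < 2025, ∃ i : ℕ, g = E xI ^ i * U m * (E xI ^ i)⁻¹}

theorem cls_conj (a : ↥P) : ∀ g ∈ cls, a * g * a⁻¹ ∈ cls := by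
  have := finite_P
  have hT : ∀ g ∈ cls, E tI * g * (E tI)⁻¹ ∈ cls := by
    rintro g ⟨m, hm, i, rfl⟩
    have h : ∀ m < 2025, ∀ i < 11, tabN (11 * m + i) < 22275 ∧ ∀ b ∈ basePts,
        tN (cN i m (tN b)) = cN (tabN (11 * m + i) % 11) (tabN (11 * m + i) / 11) b := by
      have h0 := cls_check0
      have h1 := cls_check1
      have h2 := cls_check2
      simp only [List.all_eq_true, List.mem_range, Bool.and_eq_true, decide_eq_true_eq, beq_iff_eq] at h0 h1 h2
      intro m hm
      rcases Nat.lt_or_ge m 675 with hlt | hge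
      · simpa using h0 m hlt
      rcases Nat.lt_or_ge m 1350 with hlt | hge'
      · obtain ⟨d, rfl⟩ := Nat.exists_eq_add_of_le hge
        exact h1 d (by omega)
      · obtain ⟨d, rfl⟩ := Nat.exists_eq_add_of_le hge'
        exact h2 d (by omega)
    have hi : i % 11 < 11 := Nat.mod_lt _ (by norm_num)
    obtain ⟨hv, he⟩ := h m hm (i % 11) hi
    set v := tabN (11 * m + i % 11)
    refine ⟨v / 11, by omega, v % 11, ?_⟩
    rw [x_pow_mod i, inv_eq_of_mul_eq_one_right t_sq]
    exact eq_of_does ((T_does.mul (does_conj hi.le hm)).mul T_does)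
      (does_conj (Nat.mod_lt v (by norm_num)).le (by omega)) he
  have hX : ∀ g ∈ cls, E xI * g * (E xI)⁻¹ ∈ cls := by
    rintro g ⟨m, hm, i, rfl⟩
    exact ⟨m, hm, i + 1, by rw [pow_succ']; group⟩
  have ha : a ∈ Submonoid.closure ({E xI, E tI} : Set ↥P) := by
    rw [← Subgroup.closure_toSubmonoid_of_finite, closure_pair]
    trivial
  induction ha using Submonoid.closure_induction with
  | mem a ha =>
    rcases ha with rfl | rfl
    exacts [hX, hT]
  | one => intro g hg; simpa using hg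
  | mul a b _ _ ha hb =>
    intro g hg
    have := ha _ (hb g hg)
    simpa [mul_assoc] using this

theorem t_mem_cls : E tI ∈ cls := by
  refine ⟨0, by norm_num, 0, ?_⟩
  have h := rep_root
  simp only [List.all_eq_true, List.mem_range, beq_iff_eq] at h
  refine eq_of_does T_does (does_conj (i := 0) (by norm_num) (by norm_num)) fun b hb => ?_
  have hp := pow_check
  simp only [List.all_eq_true, List.mem_range, beq_iff_eq] at hp
  have h11 := x_facts.1
  simp only [List.all_eq_true, beq_iff_eq] at h11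
  have hlt : ∀ c ∈ basePts, uN 0 c < 275 := fun c hc => by
    rw [h c (base_lt hc)]
    have e : ((E tI).1 ⟨c, base_lt hc⟩).1 = tN c := T_does ⟨c, base_lt hc⟩
    have e2 := ((E tI).1 ⟨c, base_lt hc⟩).2
    omega
  rw [cN, hp 11 (by norm_num) b (base_lt hb), h11 b hb, hp 0 (by norm_num) _ (hlt b hb)]
  exact (h b (base_lt hb)).symm

/-! ### The Sylow two-subgroup -/

theorem sylIdx_lt {q : ℕ} (hq : q < 128) : sylIdx.getD q 0 < 891 := by
  have h := sylIdx_check.1
  simp only [List.all_eq_true, List.mem_range, decide_eq_true_eq] at h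
  exact h q hq

theorem sylGens_lt {k : ℕ} (hk : k < 3) : sylGens.getD k 0 < 891 := by
  have h := sylIdx_check.2
  simp only [List.all_eq_true, List.mem_range, decide_eq_true_eq] at h
  exact h k hk

/-- An element of the Sylow two-subgroup. -/
noncomputable def Q (q : ℕ) : ↥P := E (sylIdx.getD q 0)

/-- A generator of the Sylow two-subgroup. -/
noncomputable def G2 (k : ℕ) : ↥P := E (sylGens.getD k 0)

theorem does_Q {q : ℕ} (hq : q < 128) : Does (Q q) (qN q) := does_E (sylIdx_lt hq)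

theorem does_G2 {k : ℕ} (hk : k < 3) : Does (G2 k) (sgN k) := does_E (sylGens_lt hk)

/-- The Sylow two-subgroup. -/
noncomputable def S2 : Subgroup ↥P := Subgroup.closure (Set.range fun k : Fin 3 => G2 k.1)

theorem G2_mem (k : Fin 3) : G2 k.1 ∈ S2 := Subgroup.subset_closure ⟨k, rfl⟩

theorem Q_injective {q r : ℕ} (hq : q < 128) (hr : r < 128) (e : Q q = Q r) : q = r := by
  refine List.inj_on_of_nodup_map syl_nodup (List.mem_range.2 hq) (List.mem_range.2 hr) ?_
  have hmap : ∀ b ∈ basePts, qN q b = qN r b := fun b hb => (does_Q hq).congr_base (does_Q hr) e hb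
  simp only [qKey]
  exact List.foldl_ext _ _ 0 fun acc b hb => by rw [hmap b hb]

theorem syl_step {k q : ℕ} (hk : k < 3) (hq : q < 128) : G2 k * Q q = Q (sylN k q) ∧ sylN k q < 128 := by
  have hv : sylN k q < 128 := Nat.lt_of_le_of_lt Nat.and_le_right (by norm_num)
  have h := syl_closed
  simp only [List.all_eq_true, List.mem_range, beq_iff_eq] at h
  exact ⟨eq_of_does ((does_G2 hk).mul (does_Q hq)) (does_Q hv) (h k hk q hq), hv⟩

theorem Q_zero : Q 0 = 1 := by
  have h := syl_special.1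
  simp only [List.all_eq_true, beq_iff_eq] at h
  exact eq_of_does (does_Q (by norm_num)) does_one h

theorem Q_28 : Q 28 = E zI := by
  have h := syl_special.2.1
  simp only [List.all_eq_true, beq_iff_eq] at h
  exact eq_of_does (does_Q (by norm_num)) (does_E (n := zI) (by decide)) h

theorem mem_S2 {g : ↥P} (hg : g ∈ S2) : ∃ q < 128, Q q = g := by
  have := finite_P
  have hg' : g ∈ Submonoid.closure (Set.range fun k : Fin 3 => G2 k.1) := by
    rw [← Subgroup.closure_toSubmonoid_of_finite]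
    exact hg
  clear hg
  induction hg' using Submonoid.closure_induction_left with
  | one => exact ⟨0, by norm_num, Q_zero⟩
  | mul_left a ha b _ hb =>
    obtain ⟨k, rfl⟩ := ha
    obtain ⟨q, hq, rfl⟩ := hb
    obtain ⟨e, hv⟩ := syl_step k.2 hq
    exact ⟨_, hv, e.symm⟩

theorem tree_mem : ∀ q < 128, Q q ∈ S2 := by
  have htree := syl_tree
  simp only [List.all_eq_true, List.any_eq_true, List.mem_range, Bool.or_eq_true, decide_eq_true_eq,
    beq_iff_eq] at htree
  intro v
  induction v using Nat.strong_induction_on with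
  | _ v ih =>
    intro hv
    rcases htree v hv with rfl | ⟨k, hk, q, hq, e⟩
    · rw [Q_zero]; exact one_mem _
    · rw [← e, ← (syl_step hk (show q < 128 by omega)).1]
      exact mul_mem (G2_mem ⟨k, hk⟩) (ih q hq (by omega))

theorem card_S2 : Nat.card ↥S2 = 128 := by
  have hb : Function.Bijective fun q : Fin 128 => (⟨Q q.1, tree_mem q.1 q.2⟩ : ↥S2) := by
    refine ⟨fun q r e => Fin.ext (Q_injective q.2 r.2 (congrArg Subtype.val e)), fun g => ?_⟩
    obtain ⟨q, hq, e⟩ := mem_S2 g.2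
    exact ⟨⟨q, hq⟩, Subtype.ext e⟩
  rw [← Nat.card_congr (Equiv.ofBijective _ hb), Nat.card_fin]

theorem multiplicities : (898128000 : ℕ).factorization 2 = 7 ∧ (898128000 : ℕ).factorization 11 = 1 := by
  rw [show (898128000 : ℕ) = 2 ^ 7 * 7016625 by norm_num,
    Nat.factorization_mul (by norm_num) (by norm_num), Nat.factorization_pow]
  constructor
  · rw [Finsupp.add_apply, Finsupp.smul_apply, Nat.Prime.factorization_self (by norm_num),
      Nat.factorization_eq_zero_of_not_dvd (by norm_num)]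
    rfl
  · rw [Finsupp.add_apply, Finsupp.smul_apply,
      Nat.factorization_eq_zero_of_not_dvd (show ¬ 11 ∣ 2 by norm_num),
      show (7016625 : ℕ) = 11 ^ 1 * 637875 by norm_num, Nat.factorization_mul (by norm_num) (by norm_num),
      Nat.factorization_pow, Finsupp.add_apply, Finsupp.smul_apply, Nat.Prime.factorization_self (by norm_num),
      Nat.factorization_eq_zero_of_not_dvd (by norm_num)]
    rfl

theorem z_central {g : ↥P} (hg : g ∈ S2) (hne : g ≠ 1) (hc : ∀ a ∈ S2, a * g = g * a) : g = E zI := by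
  obtain ⟨q, hq, rfl⟩ := mem_S2 hg
  have h := syl_center
  simp only [List.all_eq_true, List.any_eq_true, List.mem_range, Bool.or_eq_true, decide_eq_true_eq,
    Bool.not_eq_true', List.all_eq_false, beq_iff_eq] at h
  rcases h q hq with (rfl | rfl) | ⟨k, hk, b, hb, hne'⟩
  · exact absurd Q_zero hne
  · exact Q_28
  · exact absurd (((does_G2 hk).mul (does_Q hq)).congr_base ((does_Q hq).mul (does_G2 hk))
      (hc _ (G2_mem ⟨k, hk⟩)) hb) hne'

theorem image_t_mem (φ : MulAut ↥P) : φ (E tI) ∈ cls := by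
  have := finite_P
  haveI : Fact (Nat.Prime 2) := ⟨Nat.prime_two⟩
  have hcard : Nat.card ↥S2 = 2 ^ (Nat.card ↥P).factorization 2 := by
    rw [card_S2, card_P, multiplicities.1]; norm_num
  have hcard' : Nat.card ↥(S2.map φ.toMonoidHom) = 2 ^ (Nat.card ↥P).factorization 2 := by
    rw [Subgroup.card_map_of_injective (f := φ.toMonoidHom) φ.injective, hcard]
  obtain ⟨a, ha⟩ := MulAction.exists_smul_eq ↥P (Sylow.ofCard _ hcard') (Sylow.ofCard _ hcard)
  have hS : ∀ g, g ∈ S2 → a * φ g * a⁻¹ ∈ S2 := fun g hg => by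
    have e := congrArg (fun S : Sylow 2 ↥P => (S : Subgroup ↥P)) ha
    simp only [Sylow.coe_subgroup_smul, Sylow.coe_ofCard] at e
    rw [← e]
    exact ⟨φ g, ⟨g, hg, rfl⟩, rfl⟩
  set ψ : MulAut ↥P := MulAut.conj a * φ with hψ
  have hψS : ∀ g, g ∈ S2 → ψ g ∈ S2 := hS
  have hsurj : S2.map ψ.toMonoidHom = S2 := Subgroup.eq_of_le_of_card_ge
    (by rintro _ ⟨g, hg, rfl⟩; exact hψS g hg)
    (by rw [Subgroup.card_map_of_injective (f := ψ.toMonoidHom) ψ.injective])
  have hzS : E zI ∈ S2 := Q_28 ▸ tree_mem 28 (by norm_num)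
  have hzc : ∀ b ∈ S2, b * E zI = E zI * b := by
    have hz := syl_special.2.2.1
    simp only [List.all_eq_true, List.mem_range, beq_iff_eq] at hz
    intro b hb
    induction hb using Subgroup.closure_induction with
    | mem b hb =>
      obtain ⟨k, rfl⟩ := hb
      exact eq_of_does ((does_G2 k.2).mul (does_E (n := zI) (by decide)))
        ((does_E (n := zI) (by decide)).mul (does_G2 k.2)) (hz k.1 k.2)
    | one => simp
    | mul x y _ _ hx hy => rw [mul_assoc, hy, ← mul_assoc, hx, mul_assoc]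
    | inv x _ hx => exact Commute.inv_left (show Commute x (E zI) from hx)
  have hz1 : E zI ≠ 1 := by
    intro e
    have h := syl_special.2.2.2
    simp only [List.any_eq_true, Bool.not_eq_true', beq_eq_false_iff_ne] at h
    obtain ⟨b, hb, hne⟩ := h
    exact hne ((does_E (n := zI) (by decide)).congr_base does_one e hb)
  have hfix : ψ (E zI) = E zI := by
    refine z_central (hψS _ hzS) (fun e => hz1 (ψ.injective (e.trans (map_one ψ).symm))) fun b hb => ?_
    rw [← hsurj] at hb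
    obtain ⟨c, hc, rfl⟩ := hb
    show ψ c * ψ (E zI) = ψ (E zI) * ψ c
    rw [← map_mul, ← map_mul, hzc c hc]
  have hφ : φ (E zI) = a⁻¹ * E zI * a := by
    calc φ (E zI) = a⁻¹ * (a * φ (E zI) * a⁻¹) * a := by group
      _ = a⁻¹ * E zI * a := congrArg (fun c => a⁻¹ * c * a) hfix
  have hz : E zI = (E dI)⁻¹ * E tI * E dI := by rw [t_conj]; group
  rw [t_conj, map_mul, map_mul, map_inv, hφ, hz,
    show φ (E dI) * (a⁻¹ * ((E dI)⁻¹ * E tI * E dI) * a) * (φ (E dI))⁻¹ =
      (φ (E dI) * a⁻¹ * (E dI)⁻¹) * E tI * (φ (E dI) * a⁻¹ * (E dI)⁻¹)⁻¹ by group]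
  exact cls_conj _ _ t_mem_cls

/-! ### The element of order eleven -/

theorem exists_x_pm (φ : MulAut ↥P) : ∃ c : ↥P, c * φ (E xI) * c⁻¹ = E xI ∨ c * φ (E xI) * c⁻¹ = (E xI)⁻¹ := by
  have := finite_P
  haveI : Fact (Nat.Prime 11) := ⟨by norm_num⟩
  have hcard : Nat.card ↥(Subgroup.zpowers (E xI)) = 11 ^ (Nat.card ↥P).factorization 11 := by
    rw [Nat.card_zpowers, x_order, card_P, multiplicities.2, pow_one]
  have hcard' : Nat.card ↥(Subgroup.zpowers (φ (E xI))) = 11 ^ (Nat.card ↥P).factorization 11 := by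
    rw [Nat.card_zpowers, MulEquiv.orderOf_eq, x_order, card_P, multiplicities.2, pow_one]
  obtain ⟨a, ha⟩ := MulAction.exists_smul_eq ↥P (Sylow.ofCard _ hcard') (Sylow.ofCard _ hcard)
  have e := congrArg (fun S : Sylow 11 ↥P => (S : Subgroup ↥P)) ha
  simp only [Sylow.coe_subgroup_smul, Sylow.coe_ofCard] at e
  have hmem : a * φ (E xI) * a⁻¹ ∈ Subgroup.zpowers (E xI) := e ▸ ⟨φ (E xI), Subgroup.mem_zpowers _, rfl⟩
  obtain ⟨k, hk, hk'⟩ : ∃ k < 11, E xI ^ k = a * φ (E xI) * a⁻¹ := by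
    obtain ⟨n, hn⟩ := (mem_powers_iff_mem_zpowers (x := E xI) (y := a * φ (E xI) * a⁻¹)).2 hmem
    exact ⟨n % 11, Nat.mod_lt _ (by norm_num), by rw [← pow_eq_pow_mod n x_pow_eleven]; exact hn⟩
  have hk0 : k ≠ 0 := by
    rintro rfl
    rw [pow_zero] at hk'
    have h1 : φ (E xI) = 1 := by
      rw [eq_comm, mul_inv_eq_one, mul_eq_left] at hk'
      exact hk'
    have h11 := x_order
    rw [← φ.orderOf_eq, h1, orderOf_one] at h11
    norm_num at h11
  have hy : ∀ n : ℕ, E yI ^ n * E xI * (E yI ^ n)⁻¹ = E xI ^ (9 ^ n) := by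
    intro n
    induction n with
    | zero => simp
    | succ n ih =>
      rw [pow_succ' (E yI), mul_assoc (E yI), show E yI * (E yI ^ n * E xI) * (E yI * E yI ^ n)⁻¹ =
        E yI * (E yI ^ n * E xI * (E yI ^ n)⁻¹) * (E yI)⁻¹ by group, ih, ← MulAut.conj_apply, map_pow,
        MulAut.conj_apply, y_conj, ← pow_mul, ← pow_succ']
  have hdec : ∀ k < 11, k ≠ 0 → ∃ n < 5, k * 9 ^ n % 11 = 1 ∨ k * 9 ^ n % 11 = 10 := by decide
  obtain ⟨n, -, hn⟩ := hdec k hk hk0
  refine ⟨E yI ^ n * a, ?_⟩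
  have e' : E yI ^ n * a * φ (E xI) * (E yI ^ n * a)⁻¹ = E xI ^ (k * 9 ^ n % 11) := by
    rw [show E yI ^ n * a * φ (E xI) * (E yI ^ n * a)⁻¹ = E yI ^ n * (a * φ (E xI) * a⁻¹) * (E yI ^ n)⁻¹ by group,
      ← hk', ← MulAut.conj_apply, map_pow, MulAut.conj_apply, hy n, ← pow_mul, Nat.mul_comm,
      ← pow_eq_pow_mod _ x_pow_eleven]
  rcases hn with hn | hn
  · exact Or.inl (by rw [e', hn, pow_one])
  · exact Or.inr (by
      rw [e', hn, eq_inv_iff_mul_eq_one, ← pow_succ, x_pow_eleven])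

theorem conditions : (E xI ^ 5 * E tI) ^ 7 = 1 ∧
    (E xI ^ 1 * (E tI * (E xI ^ 2 * (E tI * (E xI ^ 3 * E tI))))) ^ 3 = 1 := by
  have hg := good_check.2
  have hr := rep_root
  simp only [List.all_eq_true, List.mem_range, beq_iff_eq] at hr
  have hU : Does (E tI) (uN 0) := fun i => by rw [T_does, hr i.1 i.2]
  simp only [goodN, Bool.and_eq_true, List.all_eq_true, beq_iff_eq] at hg
  exact ⟨eq_of_does (((does_xpow (i := 5) (by norm_num)).mul hU).pow 7) does_one hg.1,
    eq_of_does (((does_xpow (i := 1) (by norm_num)).mul (hU.mul ((does_xpow (i := 2) (by norm_num)).mul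
      (hU.mul ((does_xpow (i := 3) (by norm_num)).mul hU))))).pow 3) does_one hg.2⟩

theorem goodN_of {X : ↥P} {i m : ℕ} (hm : m < 2025) {f : ℕ → ℕ → ℕ} (hf : ∀ a ≤ 5, Does (X ^ a) (f a))
    (hcomm : Commute X (E xI ^ i)) (h1 : (X ^ 5 * (E xI ^ i * U m * (E xI ^ i)⁻¹)) ^ 7 = 1)
    (h2 : (X ^ 1 * ((E xI ^ i * U m * (E xI ^ i)⁻¹) * (X ^ 2 * ((E xI ^ i * U m * (E xI ^ i)⁻¹) *
      (X ^ 3 * (E xI ^ i * U m * (E xI ^ i)⁻¹)))))) ^ 3 = 1) : goodN f m = true := by
  set c := E xI ^ i with hc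
  have hX : ∀ a : ℕ, X ^ a = MulAut.conj c (X ^ a) := fun a => by
    rw [MulAut.conj_apply, ← (hcomm.pow_left a).eq, mul_inv_cancel_right]
  have hu : c * U m * c⁻¹ = MulAut.conj c (U m) := (MulAut.conj_apply c (U m)).symm
  rw [hu, hX 5, ← map_mul, ← map_pow, MulEquiv.map_eq_one_iff] at h1
  rw [hu, hX 1, hX 2, hX 3, ← map_mul, ← map_mul, ← map_mul, ← map_mul, ← map_mul, ← map_pow,
    MulEquiv.map_eq_one_iff] at h2
  have hU := does_U hm
  simp only [goodN, Bool.and_eq_true, List.all_eq_true, beq_iff_eq]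
  exact ⟨fun b hb => (((hf 5 le_rfl).mul hU).pow 7).congr_base does_one h1 hb,
    fun b hb => (((hf 1 (by norm_num)).mul (hU.mul ((hf 2 (by norm_num)).mul (hU.mul
      ((hf 3 (by norm_num)).mul hU))))).pow 3).congr_base does_one h2 hb⟩

theorem x_inv_pow {a : ℕ} (ha : a ≤ 11) : (E xI)⁻¹ ^ a = E xI ^ (11 - a) := by
  rw [inv_pow, inv_eq_iff_mul_eq_one, ← pow_add, Nat.add_sub_cancel' ha, x_pow_eleven]

theorem candidate {g X : ↥P} (hX : X = E xI ∨ X = (E xI)⁻¹) (hg : g ∈ cls) (h1 : (X ^ 5 * g) ^ 7 = 1)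
    (h2 : (X ^ 1 * (g * (X ^ 2 * (g * (X ^ 3 * g))))) ^ 3 = 1) :
    X = E xI ∧ ∃ k : ℕ, g = E xI ^ k * E tI * (E xI ^ k)⁻¹ ∨ g = E xI ^ k * E t2I * (E xI ^ k)⁻¹ := by
  obtain ⟨m, hm, i, rfl⟩ := hg
  have hc := good_check.1
  simp only [List.all_eq_true, List.any_eq_true, List.mem_range, Bool.or_eq_true, Bool.and_eq_true,
    Bool.not_eq_true', beq_iff_eq] at hc
  obtain ⟨hb, hf⟩ := hc m hm
  rcases hX with rfl | rfl
  · refine ⟨rfl, ?_⟩
    have hgood := goodN_of hm (f := xpN) (fun a ha => does_xpow (by omega)) ((Commute.refl _).pow_right i) h1 h2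
    rcases hf with hf | ⟨j, hj, t, ht, he⟩
    · rw [hf] at hgood; exact absurd hgood (by decide)
    refine ⟨i + j, ?_⟩
    have key : t < 891 → U m = E xI ^ j * E t * (E xI ^ j)⁻¹ := fun ht' => by
      have e : (E xI ^ j)⁻¹ = E xI ^ (11 - j) := by rw [← inv_pow]; exact x_inv_pow hj.le
      rw [e, mul_assoc]
      exact eq_of_does (does_U hm)
        ((does_xpow hj.le).mul ((does_E ht').mul (does_xpow (Nat.sub_le 11 j)))) he
    simp only [List.mem_cons, List.not_mem_nil, or_false] at ht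
    rcases ht with rfl | rfl
    · left; rw [key (by decide), pow_add]; group
    · right; rw [key (by decide), pow_add]; group
  · have hgood := goodN_of hm (f := fun a => xpN (11 - a))
      (fun a ha => by rw [x_inv_pow (show a ≤ 11 by omega)]; exact does_xpow (Nat.sub_le 11 a))
      (((Commute.refl _).inv_left).pow_right i) h1 h2
    rw [hb] at hgood
    exact absurd hgood (by decide)

theorem ext_pair {φ ψ : MulAut ↥P} (hx : φ (E xI) = ψ (E xI)) (ht : φ (E tI) = ψ (E tI)) : φ = ψ := by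
  have := MonoidHom.eq_of_eqOn_dense closure_pair (f := φ.toMonoidHom) (g := ψ.toMonoidHom) (by
    rintro g (rfl | rfl)
    exacts [hx, ht])
  exact MulEquiv.ext fun g => DFunLike.congr_fun this g

/-! ### The outer permutation -/

theorem sig_lt {b : ℕ} (hb : b < 275) : sN b < 275 ∧ sN' b < 275 ∧ sN' (sN b) = b ∧ sN (sN' b) = b := by
  have h := sig_inv
  simp only [List.all_eq_true, List.mem_range, Bool.and_eq_true, decide_eq_true_eq, beq_iff_eq] at h
  obtain ⟨⟨⟨h1, h2⟩, h3⟩, h4⟩ := h b hb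
  exact ⟨h1, h2, h3, h4⟩

/-- The outer permutation. -/
def sigP : Equiv.Perm (Fin 275) where
  toFun b := ⟨sN b.1, (sig_lt b.2).1⟩
  invFun b := ⟨sN' b.1, (sig_lt b.2).2.1⟩
  left_inv b := Fin.ext (sig_lt b.2).2.2.1
  right_inv b := Fin.ext (sig_lt b.2).2.2.2

theorem sigP_val (b : Fin 275) : (sigP b).1 = sN b.1 := rfl

attribute [local irreducible] sigP

theorem sig_inter {a c : ↥P} {f f' : ℕ → ℕ} (ha : Does a f) (hc : Does c f')
    (h : ∀ b < 275, sN (f b) = f' (sN b)) : sigP * a.1 * sigP⁻¹ = c.1 := by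
  rw [mul_inv_eq_iff_eq_mul]
  refine Equiv.ext fun b => Fin.ext ?_
  rw [Equiv.Perm.mul_apply, Equiv.Perm.mul_apply, sigP_val, ha, hc, sigP_val]
  exact h b.1 b.2

theorem sig_conj (g : ↥P) : sigP * g.1 * sigP⁻¹ ∈ P := by
  have hg : g ∈ Subgroup.closure (Set.range fun k : Fin 4 => E k.1) := closure_gens ▸ Subgroup.mem_top g
  induction hg using Subgroup.closure_induction with
  | mem g hg =>
    obtain ⟨k, rfl⟩ := hg
    have h := sig_gens
    simp only [List.all_eq_true, List.mem_range, Bool.and_eq_true, decide_eq_true_eq, beq_iff_eq] at h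
    obtain ⟨hlt, he⟩ := h k.1 k.2
    rw [sig_inter (does_E (n := k.1) (by omega)) (does_E hlt) he]
    exact SetLike.coe_mem _
  | one => simp
  | mul a b _ _ ha hb =>
    rw [Subgroup.coe_mul, show sigP * (a.1 * b.1) * sigP⁻¹ = sigP * a.1 * sigP⁻¹ * (sigP * b.1 * sigP⁻¹) by group]
    exact mul_mem ha hb
  | inv a _ ha =>
    rw [Subgroup.coe_inv, show sigP * a.1⁻¹ * sigP⁻¹ = (sigP * a.1 * sigP⁻¹)⁻¹ by group]
    exact inv_mem ha

/-- Conjugation by the outer permutation, as a homomorphism. -/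
noncomputable def sigHom : ↥P →* ↥P where
  toFun g := ⟨sigP * g.1 * sigP⁻¹, sig_conj g⟩
  map_one' := Subtype.ext (by simp)
  map_mul' a b := Subtype.ext (by simp [mul_assoc])

theorem sigHom_val (g : ↥P) : (sigHom g).1 = sigP * g.1 * sigP⁻¹ := rfl

theorem sigHom_bijective : Function.Bijective sigHom := by
  have := finite_P
  refine Finite.injective_iff_bijective.1 fun a b h => Subtype.ext ?_
  have e : sigP * a.1 * sigP⁻¹ = sigP * b.1 * sigP⁻¹ := by rw [← sigHom_val, ← sigHom_val, h]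
  exact mul_left_cancel (mul_right_cancel e)

/-- The outer automorphism. -/
noncomputable def sigAut : MulAut ↥P := MulEquiv.ofBijective sigHom sigHom_bijective

theorem sigAut_val (g : ↥P) : (sigAut g).1 = sigP * g.1 * sigP⁻¹ := by
  rw [sigAut, MulEquiv.ofBijective_apply, sigHom_val]

theorem sigAut_x : sigAut (E xI) = E xI := by
  have h := sig_pair
  simp only [List.all_eq_true, List.mem_range, Bool.and_eq_true, beq_iff_eq] at h
  exact Subtype.ext ((sigAut_val _).trans (sig_inter X_does X_does fun b hb => (h b hb).1))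

theorem sigAut_t : sigAut (E tI) = E t2I := by
  have h := sig_pair
  simp only [List.all_eq_true, List.mem_range, Bool.and_eq_true, beq_iff_eq] at h
  exact Subtype.ext ((sigAut_val _).trans
    (sig_inter T_does (does_E (n := t2I) (by decide)) fun b hb => (h b hb).2))

theorem sigP_not_mem : sigP ∉ P := by
  intro hs
  obtain ⟨hnd, hne, hpre, -, hlen, hin, hch, hprod⟩ := sift_check
  simp only [List.all_eq_true, List.any_eq_true, List.mem_range, Bool.and_eq_true, decide_eq_true_eq,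
    Bool.not_eq_true', beq_eq_false_iff_ne, beq_iff_eq] at hne hpre hin
  set F := fixSub P [0, 1, 2, 3].reverse
  have hcard : Nat.card ↥F ≤ 8 := by
    have h := card_chain (H := P) (fun n hn => elt_mem hn) hch
    rw [card_P, ← hprod] at h
    exact Nat.le_of_mul_le_mul_left h (by decide +kernel)
  have hb4 : ∀ b ∈ ([0, 1, 2, 3] : List ℕ), b < 275 := by decide
  set T := transIdx.getD 4 [] with hT
  have hmem : ∀ j ∈ T, (E j).1 ∈ F := fun j hj => mem_fixSub.2 ⟨(E j).2, fun c hc => Fin.ext (by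
    rw [List.mem_reverse] at hc
    rw [does_E (hin j hj).1 (pnt c), pnt_val (hb4 c hc)]
    exact (hin j hj).2 c hc)⟩
  have h890 := does_E (n := 890) (by norm_num)
  have hw : (E 890).1⁻¹ * sigP ∈ F := mem_fixSub.2 ⟨mul_mem (inv_mem (E 890).2) hs, fun c hc => by
    rw [List.mem_reverse] at hc
    rw [Equiv.Perm.mul_apply, Equiv.Perm.inv_eq_iff_eq]
    refine Fin.ext ?_
    rw [sigP_val, h890 (pnt c), pnt_val (hb4 c hc)]
    exact (hpre c hc).symm⟩
  have := finite_P
  have : Finite ↥F := Finite.of_injective (fun g : ↥F => (⟨g.1, (mem_fixSub.1 g.2).1⟩ : ↥P))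
    fun g h e => Subtype.ext (congrArg (fun z : ↥P => z.1) e)
  let f : Fin T.length → ↥F := fun k => ⟨(E (T.get k)).1, hmem _ (T.get_mem k)⟩
  have hinj : Function.Injective f := fun k k' e => by
    have e1 := congrArg (fun g : ↥F => (g.1 (pnt 4)).1) e
    simp only [f] at e1
    rw [does_E (hin _ (T.get_mem k)).1 (pnt 4), does_E (hin _ (T.get_mem k')).1 (pnt 4),
      pnt_val (by norm_num)] at e1
    exact Fin.ext ((hnd.getElem_inj_iff (i := k.1) (j := k'.1) (hi := by simp) (hj := by simp)).1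
      (by simpa using e1))
  have hsurj : Function.Surjective f := by
    refine ((Nat.bijective_iff_injective_and_card f).2 ⟨hinj, le_antisymm ?_ ?_⟩).2
    · exact Nat.card_le_card_of_injective f hinj
    · rw [Nat.card_fin, hlen]; exact hcard
  obtain ⟨k, hk⟩ := hsurj ⟨_, hw⟩
  have e : (E 890).1 * (E (T.get k)).1 = sigP := by
    have := congrArg Subtype.val hk
    simp only [f] at this
    rw [this, mul_inv_cancel_left]
  obtain ⟨b, hb, hneb⟩ := hne _ (T.get_mem k)
  refine hneb ?_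
  have e2 := (Does.mul h890 (does_E (hin _ (T.get_mem k)).1)) ⟨b, hb⟩
  rw [Subgroup.coe_mul, e, sigP_val] at e2
  exact e2.symm

theorem centralizer_trivial {π : Equiv.Perm (Fin 275)} (h : ∀ g : ↥P, g.1 * π = π * g.1) : π = 1 := by
  obtain ⟨h0, hmove, hlt, htr⟩ := mover_check
  simp only [List.all_eq_true, List.mem_range, Bool.or_eq_true, Bool.not_eq_true', beq_eq_false_iff_ne,
    beq_iff_eq, decide_eq_true_eq, List.any_eq_true] at hmove hlt htr
  have h146 := does_E (n := 146) (by norm_num)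
  have hp0 : π 0 = 0 := by
    have e : (E 146).1 (π 0) = π 0 := by
      rw [← Equiv.Perm.mul_apply, h, Equiv.Perm.mul_apply]
      exact congrArg π (Fin.ext ((h146 0).trans h0))
    rcases hmove (π 0).1 (π 0).2 with h1 | h1
    · exact Fin.ext h1
    · refine absurd ?_ h1
      rw [← h146 (π 0), e]
  refine Equiv.ext fun b => ?_
  obtain ⟨n, hn, hnb⟩ := htr b.1 b.2
  have e : (E n).1 0 = b := Fin.ext ((does_E (hlt n hn) 0).trans hnb)
  rw [← e, ← Equiv.Perm.mul_apply, ← h (E n), Equiv.Perm.mul_apply, hp0]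
  rfl

theorem sigAut_not_inn : sigAut ∉ Inn ↥P := by
  rintro ⟨a, ha⟩
  have h : ∀ g : ↥P, g.1 * (a.1⁻¹ * sigP) = (a.1⁻¹ * sigP) * g.1 := by
    intro g
    have e : a.1 * g.1 * a.1⁻¹ = sigP * g.1 * sigP⁻¹ := by
      rw [← sigAut_val, ← ha]
      rfl
    calc g.1 * (a.1⁻¹ * sigP) = a.1⁻¹ * (a.1 * g.1 * a.1⁻¹) * sigP := by group
      _ = a.1⁻¹ * (sigP * g.1 * sigP⁻¹) * sigP := by rw [e]
      _ = a.1⁻¹ * sigP * g.1 := by group
  have h1 := centralizer_trivial h
  rw [inv_mul_eq_one] at h1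
  exact sigP_not_mem (h1 ▸ a.2)

theorem inn_or (φ : MulAut ↥P) : φ ∈ Inn ↥P ∨ φ * sigAut⁻¹ ∈ Inn ↥P := by
  obtain ⟨c, hc⟩ := exists_x_pm φ
  set ψ := MulAut.conj c * φ with hψ
  have hx : ψ (E xI) = E xI ∨ ψ (E xI) = (E xI)⁻¹ := hc
  obtain ⟨hxx, k, hk⟩ := candidate (g := ψ (E tI)) hx (image_t_mem ψ)
    (by rw [← map_pow, ← map_mul, ← map_pow, conditions.1, map_one])
    (by simp only [← map_pow, ← map_mul]; rw [conditions.2, map_one])
  have hmem : ψ ∈ Inn ↥P ∨ ψ * sigAut⁻¹ ∈ Inn ↥P := by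
    rcases hk with hk | hk
    · exact Or.inl ⟨E xI ^ k, (ext_pair (by rw [hxx, MulAut.conj_apply]; group)
        (by rw [hk, MulAut.conj_apply])).symm⟩
    · refine Or.inr ⟨E xI ^ k, ?_⟩
      have e : ψ = MulAut.conj (E xI ^ k) * sigAut := ext_pair
        (by rw [hxx, MulAut.mul_apply, sigAut_x, MulAut.conj_apply]; group)
        (by rw [hk, MulAut.mul_apply, sigAut_t, MulAut.conj_apply])
      rw [e, mul_inv_cancel_right]
  have hφ : φ = (MulAut.conj c)⁻¹ * ψ := by rw [hψ, inv_mul_cancel_left]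
  rcases hmem with h | h
  · exact Or.inl (hφ ▸ mul_mem (inv_mem ⟨c, rfl⟩) h)
  · exact Or.inr (by rw [hφ, mul_assoc]; exact mul_mem (inv_mem ⟨c, rfl⟩) h)

theorem out_P : Nat.card (Out ↥P) = 2 := by
  change (Inn ↥P).index = 2
  refine Subgroup.index_eq_two_iff.2 ⟨sigAut⁻¹, fun b => ?_⟩
  have hσ : sigAut⁻¹ ∉ Inn ↥P := fun h => sigAut_not_inn (inv_mem_iff.1 h)
  rcases inn_or b with hb | hb
  · exact Or.inr ⟨hb, fun hc => hσ ((Subgroup.mul_mem_cancel_left _ hb).1 hc)⟩
  · exact Or.inl ⟨hb, fun hc => hσ ((Subgroup.mul_mem_cancel_left _ hc).1 hb)⟩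

/-- Isomorphic groups have outer automorphism groups of the same order. -/
theorem out_card_iso {G H : Type*} [Group G] [Group H] (e : G ≃* H) :
    Nat.card (Out G) = Nat.card (Out H) := by
  change (Inn G).index = (Inn H).index
  have hm : (Inn G).map (MulAut.congr e).toMonoidHom = Inn H := by
    rw [Inn, Inn, MonoidHom.map_range]
    have hc : (MulAut.congr e).toMonoidHom.comp MulAut.conj = MulAut.conj.comp e.toMonoidHom := by
      ext g x
      simp [MulAut.congr]
    rw [hc, MonoidHom.range_comp, MonoidHom.range_eq_top.2 e.surjective, ← MonoidHom.range_eq_map]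
  rw [← hm]
  exact (Subgroup.index_map_equiv (H := Inn G) (MulAut.congr e)).symm

theorem out_McL : Nat.card (Out ↥Spor.McL) = 2 := by
  obtain ⟨e⟩ := nonempty_equiv_McL
  exact (out_card_iso e).trans out_P

end CfsgLib.Spor.McLPerm
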